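import Cfsg.Agent.RootAmalgam.Basic
set_option linter.all false

/-!
# Root data from rank two: the data of one pair

`PairData m X Xn X' Xn' Z`: a rank two system of root groups with `2 m` roots, simple root groups `X`, `X'`
and their opposites `Xn`, `Xn'`.  `RD.ofPairs`: data for all pairs give a root datum `RD` (the
`μ`-elements of different pairs agree because they are unique).
-/

set_option autoImplicit false
set_option linter.unusedSectionVars false

namespace Cfsg.Agent.RootAmalgam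

open scoped commutatorElement

universe u

variable {Y : Type u} [Group Y]

/-- A rank two system of root groups: positions `1, …, m` are the positive roots, `1` and `m` the simple
roots, `m + 1` and `0` their opposites, everything has period `2 m`. -/
structure PairData (m : ℕ) (X Xn X' Xn' : Subgroup Y) (Z : ℤ → Subgroup Y) : Prop where
  per : ∀ k, Z (k + 2 * m) = Z k
  z_one : Z 1 = X
  z_m : Z m = X'
  z_m1 : Z (m + 1) = Xn
  z_zero : Z 0 = Xn'
  comm : ∀ k l : ℤ, 1 ≤ k → k < l → l ≤ m → ∀ x ∈ Z k, ∀ y ∈ Z l, ⁅x, y⁆ ∈ ⨆ r ∈ Set.Ioo k l, Z r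
  mu : ∀ a ∈ Xn, a ≠ 1 → ∃ x ∈ X, ∃ y ∈ X, Maps Z (x * a * y) (fun k => m + 2 - k)
  mu' : ∀ a ∈ Xn', a ≠ 1 → ∃ x ∈ X', ∃ y ∈ X', Maps Z (x * a * y) (fun k => m - k)

namespace PairData

variable {m : ℕ} {X Xn X' Xn' : Subgroup Y} {Z : ℤ → Subgroup Y}

/-- The same data read backwards. -/
theorem symm (P : PairData m X Xn X' Xn' Z) :
    PairData m X' Xn' X Xn (fun k => Z (m + 1 - k)) where
  per := by
    intro k
    have := P.per (m + 1 - (k + 2 * m))
    rw [← this]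
    congr 1
    ring
  z_one := by
    rw [← P.z_m]
    congr 1
    ring
  z_m := by
    rw [← P.z_one]
    congr 1
    ring
  z_m1 := by
    rw [← P.z_zero]
    congr 1
    ring
  z_zero := by
    rw [← P.z_m1, sub_zero]
  comm := by
    intro k l hk hkl hl x hx y hy
    have h1 := P.comm (m + 1 - l) (m + 1 - k) (by omega) (by omega) (by omega) y hy x hx
    rw [← commutatorElement_inv]
    refine inv_mem ?_
    refine (iSup₂_le fun r hr => ?_ : (⨆ r ∈ Set.Ioo ((m : ℤ) + 1 - l) (m + 1 - k), Z r) ≤ _) h1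
    refine le_iSup₂_of_le (m + 1 - r) ⟨by have := hr.2; omega, by have := hr.1; omega⟩ ?_
    have e : (m : ℤ) + 1 - (m + 1 - r) = r := by ring
    rw [e]
  mu := by
    intro a ha h1
    obtain ⟨x, hx, y, hy, h⟩ := P.mu' a ha h1
    refine ⟨x, hx, y, hy, fun k z => ?_⟩
    have h2 := h (m + 1 - k) z
    have e : (m : ℤ) - (m + 1 - k) = m + 1 - (m + 2 - k) := by ring
    simp only [e] at h2
    exact h2
  mu' := by
    intro a ha h1
    obtain ⟨x, hx, y, hy, h⟩ := P.mu a ha h1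
    refine ⟨x, hx, y, hy, fun k z => ?_⟩
    have h2 := h (m + 1 - k) z
    have e : (m : ℤ) + 2 - (m + 1 - k) = m + 1 - (m - k) := by ring
    simp only [e] at h2
    exact h2

theorem swap (P : PairData m X Xn X' Xn' Z) {w : Y} (h : Maps Z w (fun k => m + 2 - k)) :
    Onto w X Xn ∧ Onto w Xn X := by
  rw [← P.z_one, ← P.z_m1]
  exact ⟨h.onto (by ring), h.onto (by ring)⟩

end PairData

/-- An element of `X` normalising `Xn` is trivial. -/
theorem eq_one_of_normalises {X Xn : Subgroup Y}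
    (mu : ∀ a ∈ Xn, a ≠ 1 → ∃ x ∈ X, ∃ y ∈ X, Onto (x * a * y) X Xn ∧ Onto (x * a * y) Xn X)
    (ne : X ≠ Xn) (ne_bot : Xn ≠ ⊥) {u : Y} (hu : u ∈ X) (hn : Onto u Xn Xn) : u = 1 := by
  by_contra hne
  obtain ⟨a, ha1⟩ := Subgroup.ne_bot_iff_exists_ne_one.1 ne_bot
  have ha2 : (a : Y) ≠ 1 := fun e => ha1 (Subtype.ext e)
  obtain ⟨x0, hx0, y0, hy0, hp, hq⟩ := mu a a.2 ha2
  generalize x0 * (a : Y) * y0 = n at hp hq
  have h1 : n⁻¹ * u * n ∈ Xn := hq.mem_inv hu
  have h2 : n⁻¹ * u * n ≠ 1 := by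
    intro h2
    apply hne
    have : u = n * (n⁻¹ * u * n) * n⁻¹ := by group
    rw [this, h2]; group
  obtain ⟨x, hx, y, hy, h3, h4⟩ := mu _ h1 h2
  have e : n * (x * (n⁻¹ * u * n) * y) * n⁻¹ = (n * x * n⁻¹) * u * (n * y * n⁻¹) := by group
  have h6 : Onto (n * (x * (n⁻¹ * u * n) * y) * n⁻¹) Xn Xn := by
    rw [e]
    exact ((Onto.of_mem (hp.mem hx)).mul hn).mul (Onto.of_mem (hp.mem hy))
  have h7 : Onto (n * (x * (n⁻¹ * u * n) * y) * n⁻¹) Xn X := (hq.mul h3).mul hp.inv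
  exact ne (h7.eq h6)

/-- Uniqueness of the `μ`-elements. -/
theorem mu_unique {X Xn : Subgroup Y}
    (mu : ∀ a ∈ Xn, a ≠ 1 → ∃ x ∈ X, ∃ y ∈ X, Onto (x * a * y) X Xn ∧ Onto (x * a * y) Xn X)
    (ne : X ≠ Xn) (ne_bot : Xn ≠ ⊥) {a x y x' y' : Y} (hx : x ∈ X) (hy : y ∈ X) (hx' : x' ∈ X)
    (hy' : y' ∈ X) (h : Onto (x * a * y) X Xn ∧ Onto (x * a * y) Xn X)
    (h' : Onto (x' * a * y') X Xn ∧ Onto (x' * a * y') Xn X) : x' = x ∧ y' = y := by
  have hxa : Onto (x * a) X Xn := by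
    have := h.1.mul (Onto.of_mem (inv_mem hy))
    have e : x * a * y * y⁻¹ = x * a := by group
    rwa [e] at this
  have hxa' : Onto (x' * a) X Xn := by
    have := h'.1.mul (Onto.of_mem (inv_mem hy'))
    have e : x' * a * y' * y'⁻¹ = x' * a := by group
    rwa [e] at this
  have hx1 : x' * x⁻¹ = 1 := by
    apply eq_one_of_normalises mu ne ne_bot (mul_mem hx' (inv_mem hx))
    have := hxa'.mul hxa.inv
    have e : x' * a * (x * a)⁻¹ = x' * x⁻¹ := by group
    rwa [e] at this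
  have hay : Onto (a * y) Xn X := by
    have := (Onto.of_mem (inv_mem hx)).mul h.2
    have e : x⁻¹ * (x * a * y) = a * y := by group
    rwa [e] at this
  have hay' : Onto (a * y') Xn X := by
    have := (Onto.of_mem (inv_mem hx')).mul h'.2
    have e : x'⁻¹ * (x' * a * y') = a * y' := by group
    rwa [e] at this
  have hy1 : y⁻¹ * y' = 1 := by
    apply eq_one_of_normalises mu ne ne_bot (mul_mem (inv_mem hy) hy')
    have := hay.inv.mul hay'
    have e : (a * y)⁻¹ * (a * y') = y⁻¹ * y' := by group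
    rwa [e] at this
  exact ⟨mul_inv_eq_one.1 hx1, (inv_mul_eq_one.1 hy1).symm⟩

/-- A root datum from data of all pairs. -/
def RD.ofPairs {I : Type*} [Nontrivial I] {M : CoxeterMatrix I} (X Xn : I → Subgroup Y)
    (Z : I → I → ℤ → Subgroup Y)
    (hZ : ∀ i j, i ≠ j → PairData (M i j) (X i) (Xn i) (X j) (Xn j) (Z i j))
    (ne : ∀ i, X i ≠ Xn i) (ne_bot : ∀ i, Xn i ≠ ⊥) : RD M Y where
  X := X
  Xn := Xn
  Z := Z
  per i j hij := (hZ i j hij).per
  z_one i j hij := (hZ i j hij).z_one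
  z_m i j hij := (hZ i j hij).z_m
  z_m1 i j hij := (hZ i j hij).z_m1
  z_zero i j hij := (hZ i j hij).z_zero
  comm i j hij := (hZ i j hij).comm
  mu := by
    intro i a ha ha1
    obtain ⟨j0, hj0⟩ := exists_ne i
    have hmu : ∀ a ∈ Xn i, a ≠ 1 → ∃ x ∈ X i, ∃ y ∈ X i,
        Onto (x * a * y) (X i) (Xn i) ∧ Onto (x * a * y) (Xn i) (X i) := by
      intro a ha ha1
      obtain ⟨x, hx, y, hy, h⟩ := (hZ i j0 hj0.symm).mu a ha ha1
      exact ⟨x, hx, y, hy, (hZ i j0 hj0.symm).swap h⟩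
    obtain ⟨x, hx, y, hy, hxy⟩ := hmu a ha ha1
    refine ⟨x, hx, y, hy, fun j hij => ?_, fun j hji => ?_⟩
    · obtain ⟨x', hx', y', hy', h⟩ := (hZ i j hij).mu a ha ha1
      obtain ⟨rfl, rfl⟩ := mu_unique hmu (ne i) (ne_bot i) hx hy hx' hy' hxy ((hZ i j hij).swap h)
      exact h
    · obtain ⟨x', hx', y', hy', h⟩ := (hZ j i hji).mu' a ha ha1
      have h2 : Onto (x' * a * y') (X i) (Xn i) ∧ Onto (x' * a * y') (Xn i) (X i) := by
        rw [← (hZ j i hji).z_m, ← (hZ j i hji).z_zero]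
        exact ⟨h.onto (by ring), h.onto (by ring)⟩
      obtain ⟨rfl, rfl⟩ := mu_unique hmu (ne i) (ne_bot i) hx hy hx' hy' hxy h2
      exact h
  ne := ne
  ne_bot := ne_bot

/-- A root datum from data of all pairs, existence form: one orientation of each pair is enough. -/
theorem RD.exists_ofPairs {I : Type*} [Nontrivial I] {M : CoxeterMatrix I} (X Xn : I → Subgroup Y)
    (hZ : ∀ i j, i ≠ j → (∃ Z, PairData (M i j) (X i) (Xn i) (X j) (Xn j) Z) ∨
      ∃ Z, PairData (M i j) (X j) (Xn j) (X i) (Xn i) Z)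
    (ne : ∀ i, X i ≠ Xn i) (ne_bot : ∀ i, Xn i ≠ ⊥) :
    ∃ c : RD M Y, c.X = X ∧ c.Xn = Xn := by
  have key : ∀ i j, ∃ Z : ℤ → Subgroup Y, i ≠ j →
      PairData (M i j) (X i) (Xn i) (X j) (Xn j) Z := by
    intro i j
    by_cases hij : i = j
    · exact ⟨fun _ => ⊥, fun h => absurd hij h⟩
    · rcases hZ i j hij with ⟨Z, h⟩ | ⟨Z, h⟩
      · exact ⟨Z, fun _ => h⟩
      · exact ⟨_, fun _ => h.symm⟩
  choose Z hZ' using key
  exact ⟨RD.ofPairs X Xn Z hZ' ne ne_bot, rfl, rfl⟩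

end Cfsg.Agent.RootAmalgam
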